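import Cfsg.Agent.CosetCert.Pack

/-! Generated: the facts of the log. -/

namespace Cfsg.Agent.CosetCert.LyChain3

def factStore : Store := (.node 1 (.leaf 0x2b00021010002b0002a02000190002a000001b00017020001b0002700000130002703000110000d04000110001e040000d0002402000200002503000120002502000140002200000200001602000100001a00000170000d020000a0001600000120001501000150001501000140001001000130000a010000f0000b000000e0000802000060000c03000070000701000030000301000000000002000660006102000650006002000640005f00000630005f03000620005003000610004e03000600004b030005f0004a030005e0003f020005d0003d020005c0003c010005b0003a010005a0003802000590003701000580003602000570003503000560003202000550003201000540003103000530003002000520003000000510003002000500002f010004f0002f000004e0002f020004d0002e000004c0002e030004b0002d030004a0002c00000490002b00000480002a030004700029010004600029020004500028030004400027020004300026030004200023020004100023010004000023030003f00022010003e00022030003d00021010003c00021030003b00020020003a0001f01000390001f02000380001d01000370001d00000360001d03000350001c02000340001c01000330001b03000320001a01000310001a030003000019010002f00019030002e00018020002d00018000002c00018030002b00017010002a0001602000290001401000280001303000270001203000260001102000250001101000240001102000230001002000220000f00000210000f03000200000e010001f0000e030001e0000d010001d0000d030001c0000c010001b0000c020001a0000b00000190000b03000180000a030001700009010001600009000001500009030001400008020001300008020001200007020001100006010001000006030000f00005020000e00005000000d00005020000c00004010000b00004000000a00004000000900003030000800002020000700002010000600002030000500001010000400001000000300001020000200000000000100000)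 (.leaf 0x3000660006602000620006603000650006502000610006503000640006402000600006401000630006300000620006301000620005d01000610005b01000600005a010005f00058000005e0004e000004b0005e010005e00048000005d0003f03000450005d000003e00051030003e00048030005c0005c020003e0005c000005b0003d020005b00054010005100051030005500055010005200052010003d00040030003c0002301000230003c020003c0005500000550003c040003c0004201000490005403000540004903000490003201000320004904000560004902000540005a020005a0004703000590005902000390005901000300002904000300004601000470002f030002f00047040005300029020004700058000005800047040004f00047020004f00058000003f0005803000570005702000370005701000560005400000550004201000530004f00000520003203000500004302000310005001000340004e030004d0004d02000350004d010004c0004c00000390004c00000400004b020004a00031000004a0004000000440004902000480004103000430004502000330004500000290004401000440004100000430003b030002500041000003b0002c010003b0003903000340003a02000280003a030002d00038020001f0003801000260003701000360002c020003600033010003500033000003400026010002e00028000002d0001c))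

end Cfsg.Agent.CosetCert.LyChain3
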